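import Groth.Agent.Lib.OmegaPn27.Bott
import Groth.Agent.Lib.PBDeg17.Exists
import Groth.Agent.Lib.FormalExist7.Stalk
import Groth.Agent.Lib.Ref1.Rank
import Groth.Agent.Lib.TensorGen.Basic
import Groth.Agent.Lib.JumpPts28.Plane
import Groth.Prelude.Def_Omega3

/-!
# Vector fields on projective space have zeros
-/

set_option autoImplicit false
set_option maxHeartbeats 800000
set_option linter.all false
set_option backward.isDefEq.respectTransparency false

universe u

open CategoryTheory CategoryTheory.Limits AlgebraicGeometry Opposite TopologicalSpace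
open GrothLib.ExtPowX (wedge)
open GrothLib.OmegaPn27 (OmegaP)
open GrothLib.QCoh (stalkLin)

noncomputable section

namespace GrothLib.VecField28

variable (k : Type u) [Field k] (n : ℕ)

theorem euler_wedge (p : ℕ) :
    Curv2.euler k (CohB1.ProjSpace n k) (wedge (OmegaP n k) p) = if p ≤ n then (-1) ^ p else 0 := by
  haveI := Chow.isProper_toSpec n k
  obtain ⟨a⟩ := OmegaPn27.nonempty_Wt_zero_right n k p
  rw [Euler.euler_of_iso k a, Euler.euler_eq_sum k _ (N := n + 1) fun q hq =>
    OmegaPn27.subsingleton_Wt_of_gt n k p 0 (show n < q by omega)]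
  split_ifs with hp
  · rw [Finset.sum_eq_single p (fun q _ hq => ?_) (fun h => absurd (Finset.mem_range.2 (by omega)) h)]
    · obtain ⟨e⟩ := OmegaPn27.nonempty_untwisted n k p hp
      rw [e.finrank_eq, Module.finrank_self]
      simp
    · haveI := OmegaPn27.subsingleton_untwisted n k p q hq.symm
      rw [Module.finrank_zero_of_subsingleton]
      simp
  · refine Finset.sum_eq_zero fun q _ => ?_
    haveI := OmegaPn27.subsingleton_Wt_of_isZero n k (not_le.1 hp) 0 q
    rw [Module.finrank_zero_of_subsingleton]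
    simp

theorem euler_structure_eq_one :
    Curv2.euler k (CohB1.ProjSpace n k) (Coh.structureModule (CohB1.ProjSpace n k)) = 1 := by
  haveI := Chow.isProper_toSpec n k
  obtain ⟨a⟩ := OmegaPn27.nonempty_wedge_zero (OmegaPn27.isFinLocFree_omegaP n k)
  rw [← Euler.euler_of_iso k a, euler_wedge, if_pos (Nat.zero_le _), pow_zero]

/-- There is no surjection of the differentials onto the structure module. -/
theorem not_epi (ξ : OmegaP n k ⟶ Coh.structureModule (CohB1.ProjSpace n k)) : ¬ Epi ξ := by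
  intro hξ
  haveI := Chow.isProper_toSpec n k
  haveI : IsNoetherian (CohB1.ProjSpace n k) := Euler.isNoetherian_of_proper (X := CohB1.ProjSpace n k) k
  have h1 := euler_structure_eq_one k n
  rcases Nat.eq_zero_or_pos n with rfl | hn
  · have hz : IsZero (OmegaP 0 k) := ModelK.isZero_of_rank_zero' (OmegaPn27.isFinLocFreeOfRank_omegaP 0 k)
    have hO : IsZero (Coh.structureModule (CohB1.ProjSpace 0 k)) := by
      rw [IsZero.iff_id_eq_zero, ← cancel_epi ξ]
      exact hz.eq_of_src _ _
    rw [Euler.euler_eq_sum k _ (N := 0) fun q _ => Cohom.subsingleton_HH_of_isZero hO q] at h1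
    simp at h1
  obtain ⟨m, rfl⟩ : ∃ m, n = m + 1 := ⟨n - 1, by omega⟩
  have hK := PBDeg.isFinLocFreeOfRank_kernel_of_epi (OmegaPn27.isFinLocFreeOfRank_omegaP (m + 1) k)
    Euler.isInvertible_structure ξ
  have hKl := FinCov.isFinLocFree_of_rank hK
  let S := ShortComplex.mk (kernel.ι ξ) ξ (kernel.condition ξ)
  have hS : S.ShortExact := { exact := ShortComplex.exact_of_f_is_kernel _ (kernelIsKernel ξ) }
  let h : ℕ → ℤ := fun p => Curv2.euler k (CohB1.ProjSpace (m + 1) k) (wedge (kernel ξ) p)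
  have hstep : ∀ p, Curv2.euler k (CohB1.ProjSpace (m + 1) k) (wedge (OmegaP (m + 1) k) (p + 1)) = h (p + 1) + h p := by
    intro p
    obtain ⟨T, hT, ⟨a₁⟩, ⟨a₂⟩, ⟨a₃⟩⟩ := OmegaPn27.exists_koszul hS hKl (OmegaPn27.isFinLocFree_omegaP (m + 1) k)
      (Iso.refl _) p
    have c : ∀ (E : (CohB1.ProjSpace (m + 1) k).Modules), FlatMod.IsFinLocFree E → ∀ q, Coh.IsCoh (wedge E q) :=
      fun E hE q => Euler.isCoh_of_isFinLocFree (ExtPowX.isFinLocFree_wedge hE q)
    have hΩ := OmegaPn27.isFinLocFree_omegaP (m + 1) k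
    have := JumpPts28.euler_add (k := k) hT rfl rfl rfl
      (QCoh.isCoh_of_iso a₁.symm (c _ hKl _)) (QCoh.isCoh_of_iso a₂.symm (c _ hΩ _))
      (QCoh.isCoh_of_iso a₃.symm (c _ hKl _))
    rw [Euler.euler_of_iso k a₁, Euler.euler_of_iso k a₂, Euler.euler_of_iso k a₃] at this
    exact this
  have h0 : h 0 = 1 := by
    obtain ⟨a⟩ := OmegaPn27.nonempty_wedge_zero hKl
    exact (Euler.euler_of_iso k a).trans h1
  have hrec : ∀ p, p ≤ m + 1 → h p = (-1) ^ p * (p + 1) := by
    intro p
    induction p with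
    | zero => intro _; simpa using h0
    | succ p ih =>
      intro hp
      have h2 := hstep p
      rw [euler_wedge, if_pos hp, ih (by omega)] at h2
      push_cast
      rw [pow_succ] at h2 ⊢
      linarith
  have hlast : h (m + 1) = 0 := by
    have hz := OmegaPn27.isZero_wedge_of_rank_lt hK (Nat.lt_succ_self m)
    exact (Euler.euler_eq_sum k _ (N := 0) fun q _ => Cohom.subsingleton_HH_of_isZero hz q).trans (by simp)
  rw [hrec _ le_rfl, mul_eq_zero] at hlast
  rcases hlast with h' | h'
  · exact absurd h' (pow_ne_zero _ (by norm_num))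
  · push_cast at h'
    omega

/-- A vector field has a zero. -/
theorem exists_zero (ξ : OmegaP n k ⟶ Coh.structureModule (CohB1.ProjSpace n k)) :
    ∃ x : ↥(CohB1.ProjSpace n k), ∀ (U : (CohB1.ProjSpace n k).Opens) (hx : x ∈ U) (s : Γ(OmegaP n k, U)),
      (CohB1.ProjSpace n k).presheaf.germ U x hx (OmegaSh.fnSect (CohB1.ProjSpace n k) U (ξ.app U s)) ∈
        IsLocalRing.maximalIdeal ((CohB1.ProjSpace n k).presheaf.stalk x) := by
  by_contra hcon
  push_neg at hcon
  refine not_epi k n ξ (FormalExist7.epi_of_stalk ξ fun y v => ?_)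
  obtain ⟨U, hy, s, hs⟩ := hcon y
  let c : (CohB1.ProjSpace n k).presheaf.stalk y :=
    (CohB1.ProjSpace n k).presheaf.germ U y hy (OmegaSh.fnSect (CohB1.ProjSpace n k) U (ξ.app U s))
  have hc : IsUnit c := not_not.1 fun h => hs ((IsLocalRing.mem_maximalIdeal _).2 h)
  have g0 := Ref1.gen_of_isGen (TensorGen.isGen_one (X := CohB1.ProjSpace n k) U) hy
  obtain ⟨a, rfl⟩ := g0.2 v
  obtain ⟨d, hd⟩ := hc.exists_left_inv
  refine ⟨(a * d) • (OmegaP n k).presheaf.germ U y hy s, ?_⟩
  have hval : stalkLin ξ y ((OmegaP n k).presheaf.germ U y hy s) =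
      c • (Coh.structureModule (CohB1.ProjSpace n k)).presheaf.germ U y hy (FinCov.one (CohB1.ProjSpace n k) U) := by
    rw [QCoh.stalkLin_germ, ← WeakAss.germ_smul]
    congr 1
    exact (FinCov.smul_one U (OmegaSh.fnSect (CohB1.ProjSpace n k) U (ξ.app U s))).symm
  rw [map_smul, hval, smul_smul, mul_assoc, hd, mul_one]

end GrothLib.VecField28
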